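import Cfsg.Agent.H785.TC.CoPairs
import Cfsg.Agent.H210.TC.Row
import Cfsg.Agent.H494.TC.Base

/-!
# The row `Co1` of S4173, S2464, S2452 from the linear model and the class cover (helper785)
-/

set_option autoImplicit false

namespace Cfsg.Agent.H785.TC

open Cfsg.Agent.H123.Cls

section

variable {G : Type*} [Group G] {S : Mdl G} {a b : G}

/-- **one class of elements of order 35** -/
theorem conj35_abs (ha : Rp S a PA) (hb : Rp S b PB) (hC : Cov S) (s t : G) (hs : orderOf s = 35) (ht : orderOf t = 35) :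
    IsConj s t := by
  obtain ⟨c, hc, -⟩ := exists_c35 ha hb
  obtain ⟨u, rfl⟩ := uniq35 hC hc hs
  obtain ⟨v, rfl⟩ := uniq35 hC hc ht
  exact isConj_iff.2 ⟨v * u⁻¹, by group⟩

/-- **one class of elements of order 13** -/
theorem conj13_abs (ha : Rp S a PA) (hb : Rp S b PB) (hC : Cov S) (s t : G) (hs : orderOf s = 13) (ht : orderOf t = 13) :
    IsConj s t := by
  obtain ⟨c, hc, -⟩ := exists_c13 ha hb
  obtain ⟨u, rfl⟩ := uniq13 hC hc hs
  obtain ⟨v, rfl⟩ := uniq13 hC hc ht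
  exact isConj_iff.2 ⟨v * u⁻¹, by group⟩

/-- **one class of elements of order 11** -/
theorem conj11_abs (ha : Rp S a PA) (hb : Rp S b PB) (hC : Cov S) (s t : G) (hs : orderOf s = 11) (ht : orderOf t = 11) :
    IsConj s t := by
  obtain ⟨c, hc, -⟩ := exists_c11 ha hb
  obtain ⟨u, rfl⟩ := uniq11 hC hc hs
  obtain ⟨v, rfl⟩ := uniq11 hC hc ht
  exact isConj_iff.2 ⟨v * u⁻¹, by group⟩

/-- **every element is a product of conjugates of `x` and `y`**, any elements of order 35 -/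
theorem prd35_abs (ha : Rp S a PA) (hb : Rp S b PB) (hC : Cov S) (x y : G) (hx : orderOf x = 35) (hy : orderOf y = 35)
    (l : G) : ∃ u v : G, l = (u * x * u⁻¹) * (v * y * v⁻¹) := by
  obtain ⟨c, hc, -⟩ := exists_c35 ha hb
  obtain ⟨p, rfl⟩ := uniq35 hC hc hx
  obtain ⟨q, rfl⟩ := uniq35 hC hc hy
  obtain ⟨u, v, h⟩ := prd35 ha hb hC hc l
  exact ⟨u * p⁻¹, v * q⁻¹, by rw [h]; group⟩

/-- the same for the order 13 -/
theorem prd13_abs (ha : Rp S a PA) (hb : Rp S b PB) (hC : Cov S) (x y : G) (hx : orderOf x = 13) (hy : orderOf y = 13)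
    (l : G) : ∃ u v : G, l = (u * x * u⁻¹) * (v * y * v⁻¹) := by
  obtain ⟨c, hc, -⟩ := exists_c13 ha hb
  obtain ⟨p, rfl⟩ := uniq13 hC hc hx
  obtain ⟨q, rfl⟩ := uniq13 hC hc hy
  obtain ⟨u, v, h⟩ := prd13 ha hb hC hc l
  exact ⟨u * p⁻¹, v * q⁻¹, by rw [h]; group⟩

/-- the same for the order 11 -/
theorem prd11_abs (ha : Rp S a PA) (hb : Rp S b PB) (hC : Cov S) (x y : G) (hx : orderOf x = 11) (hy : orderOf y = 11)
    (l : G) : ∃ u v : G, l = (u * x * u⁻¹) * (v * y * v⁻¹) := by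
  obtain ⟨c, hc, -⟩ := exists_c11 ha hb
  obtain ⟨p, rfl⟩ := uniq11 hC hc hx
  obtain ⟨q, rfl⟩ := uniq11 hC hc hy
  obtain ⟨u, v, h⟩ := prd11 ha hb hC hc l
  exact ⟨u * p⁻¹, v * q⁻¹, by rw [h]; group⟩

/-- the mixed pair: an element `d` of order 23 (any power of it and its conjugates are as good), `y` of order 35 -/
theorem prd23_abs (ha : Rp S a PA) (hb : Rp S b PB) (hC : Cov S) (y : G) (hy : orderOf y = 35) :
    ∃ d : G, orderOf d = 23 ∧ ∀ l : G, l ≠ 1 → ∃ u v : G, l = (u * d * u⁻¹) * (v * y * v⁻¹) := by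
  obtain ⟨c, hc, -⟩ := exists_c35 ha hb
  obtain ⟨d, hd, hd'⟩ := exists_c23 ha hb
  obtain ⟨q, rfl⟩ := uniq35 hC hc hy
  refine ⟨d, hd', fun l hl => ?_⟩
  obtain ⟨u, v, h⟩ := prd23 ha hb hC hd hc l hl
  exact ⟨u, v * q⁻¹, by rw [h]; group⟩

/-- **23 * 35**, any elements of these orders -/
theorem prd23_any (ha : Rp S a PA) (hb : Rp S b PB) (hC : Cov S) (x y : G) (hx : orderOf x = 23) (hy : orderOf y = 35)
    (l : G) (hl : l ≠ 1) : ∃ u v : G, l = (u * x * u⁻¹) * (v * y * v⁻¹) := by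
  obtain ⟨c, hc, hco⟩ := exists_c35 ha hb
  obtain ⟨d, hd, -⟩ := exists_c23 ha hb
  obtain ⟨q, rfl⟩ := uniq35 hC hc hy
  obtain ⟨p, rfl | rfl⟩ := uniq23 hC hd hx
  · obtain ⟨u, v, h⟩ := prd23 ha hb hC hd hc l hl
    exact ⟨u * p⁻¹, v * q⁻¹, by rw [h]; group⟩
  · -- the inverse
    obtain ⟨w, hw⟩ : ∃ w : G, c⁻¹ = w * c * w⁻¹ := uniq35 hC hc (by rw [orderOf_inv, hco])
    obtain ⟨u, v, h⟩ := prd23 ha hb hC hd hc l⁻¹ (by simpa using hl)
    -- `l = (v c⁻¹ v⁻¹) (u d⁻¹ u⁻¹)`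
    have e : l = (v * c⁻¹ * v⁻¹) * (u * d⁻¹ * u⁻¹) := by
      rw [← inv_inv l, h]; group
    refine ⟨(v * c⁻¹ * v⁻¹) * u * p⁻¹, v * w * q⁻¹, ?_⟩
    have e2 : (v * w * q⁻¹) * (q * c * q⁻¹) * (v * w * q⁻¹)⁻¹ = v * c⁻¹ * v⁻¹ := by
      rw [hw]; group
    rw [e2, e]
    group

/-- S4173 + S2464 + S2452 -/
theorem row3_abs (ha : Rp S a PA) (hb : Rp S b PB) (hC : Cov S) : H210.TC.Row3 G := by
  obtain ⟨c, hc, ho⟩ := exists_c13 ha hb
  exact H210.TC.Row3.of_sq (x := c) (by rw [ho]; norm_num) (by rw [ho]; norm_num) fun g _ => prd13 ha hb hC hc g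

/-- the form `PP` -/
theorem pp_abs (ha : Rp S a PA) (hb : Rp S b PB) (hC : Cov S) : H494.TC.PP G := by
  obtain ⟨c, hc, ho⟩ := exists_c13 ha hb
  exact ⟨c, by rw [ho]; norm_num, by rw [ho]; norm_num, fun g _ => prd13 ha hb hC hc g⟩

end

end Cfsg.Agent.H785.TC
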