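import Cfsg.Agent.H898.WkCo1

/-!
# The centralizers of the elements of order 7 of `Co1` (helper785)
-/

set_option autoImplicit false

namespace Cfsg.Agent.H785.TC

open Cfsg

/-- the centralizers of the elements of order 7 have order at most 17640 -/
theorem seven {g : Spor.Co1} (hg : orderOf g = 7) : Nat.card ↥(Subgroup.centralizer ({g} : Set Spor.Co1)) ≤ 17640 := by
  rcases H898.WkCo1.seven_cases hg with ⟨-, h⟩ | ⟨-, h⟩
  · exact Nat.le_of_dvd (by norm_num) h
  · rw [h]; norm_num

end Cfsg.Agent.H785.TC
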