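import Cfsg.Agent.H785.TC.CoDat

/-!
# `Co1` : every element is a product of two elements of order 35 (13, 11; 23 and 35) (helper785)

`S` : the linear model, `a`, `b` : elements with the matrices `PA`, `PB`, `Cov` : the classification of the elements up to
conjugacy (every element is conjugate to an element with one of the matrices `Reps`).
-/

set_option autoImplicit false

namespace Cfsg.Agent.H785.TC

open Cfsg.Agent.H123.Cls

/-- the class cover -/
def Cov {G : Type*} [Group G] (S : Mdl G) : Prop := ∀ g : G, ∃ P ∈ Reps, ∃ r h : G, Rp S r P ∧ g = h * r * h⁻¹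

/-- is the order 23 -/
noncomputable def o23 (Y : ℕ) : Bool :=
  mulF Y Y fun Y2 => mulF Y2 Y2 fun Y4 => mulF Y4 Y4 fun Y8 => mulF Y8 Y8 fun Y16 => mulF Y16 Y4 fun Y20 =>
    mulF Y20 Y2 fun Y22 => mulF Y22 Y fun Y23 => band (neI Y) (Nat.beq Y23 IDP)

theorem ord23 : o23 C23 = true := by decide +kernel

/-- the order is not 23 -/
noncomputable def n23 (Y : ℕ) : Bool :=
  mulF Y Y fun Y2 => mulF Y2 Y2 fun Y4 => mulF Y4 Y4 fun Y8 => mulF Y8 Y8 fun Y16 => mulF Y16 Y4 fun Y20 =>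
    mulF Y20 Y2 fun Y22 => mulF Y22 Y fun Y23 => bor (Nat.beq Y IDP) (neI Y23)

theorem neg23 : allE (fun P => bor (Nat.beq P C23) (bor (Nat.beq P D23) (n23 P))) Reps = true := by decide +kernel

section

variable {G : Type*} [Group G] {S : Mdl G}

theorem order_23 {y : G} {Y : ℕ} (hy : Rp S y Y) (h : o23 Y = true) : orderOf y = 23 := by
  rw [o23] at h
  simp only [mulF_eq] at h
  have h1 : Rp S (y ^ 1) Y := by rwa [pow_one]
  have h2 : Rp S (y ^ 2) _ := h1.mp h1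
  have h4 : Rp S (y ^ 4) _ := h2.mp h2
  have h8 : Rp S (y ^ 8) _ := h4.mp h4
  have h16 : Rp S (y ^ 16) _ := h8.mp h8
  have h20 : Rp S (y ^ 20) _ := h16.mp h4
  have h22 : Rp S (y ^ 22) _ := h20.mp h2
  have h23 : Rp S (y ^ 23) _ := h22.mp h1
  obtain ⟨e1, e2⟩ := band_true h
  rw [Nat.eq_of_beq_eq_true e2] at h23
  exact (orderOf_eq_prime_iff (hp := ⟨by norm_num⟩)).2 ⟨h23.one_of, hy.ne_one e1⟩

theorem order_ne_23 {y : G} {Y : ℕ} (hy : Rp S y Y) (h : n23 Y = true) : orderOf y ≠ 23 := by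
  intro ho
  rw [n23] at h
  simp only [mulF_eq] at h
  have h1 : Rp S (y ^ 1) Y := by rwa [pow_one]
  have h2 : Rp S (y ^ 2) _ := h1.mp h1
  have h4 : Rp S (y ^ 4) _ := h2.mp h2
  have h8 : Rp S (y ^ 8) _ := h4.mp h4
  have h16 : Rp S (y ^ 16) _ := h8.mp h8
  have h20 : Rp S (y ^ 20) _ := h16.mp h4
  have h22 : Rp S (y ^ 22) _ := h20.mp h2
  have h23 : Rp S (y ^ 23) _ := h22.mp h1
  rcases bor_true h with h | h
  · rw [hy.one_of_beq h, orderOf_one] at ho
    exact absurd ho (by norm_num)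
  · exact h23.ne_one h (by rw [← ho, pow_orderOf_eq_one])

/-- two classes of elements of order 23 -/
theorem uniq23 (hC : Cov S) {c y : G} (hc : Rp S c C23) (hy : orderOf y = 23) :
    ∃ v : G, y = v * c * v⁻¹ ∨ y = v * c⁻¹ * v⁻¹ := by
  obtain ⟨P, hP, r, h, hr, rfl⟩ := hC y
  rcases bor_true (of_allE neg23 P hP) with h1 | h1
  · rw [Nat.eq_of_beq_eq_true h1] at hr
    rw [hr.eq hc]
    exact ⟨h, Or.inl rfl⟩
  · rcases bor_true h1 with h1 | h1
    · rw [Nat.eq_of_beq_eq_true h1] at hr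
      rw [hr.eq (hc.inv (Nat.eq_of_beq_eq_true inv23))]
      exact ⟨h, Or.inr rfl⟩
    · refine absurd ?_ (order_ne_23 hr h1)
      rw [← hy]
      exact (MulEquiv.orderOf_eq (MulAut.conj h) r).symm

theorem Cov.tab (hC : Cov S) {tab : List (ℕ × List Bool × ℕ)} (h : tab.map Prod.fst = Reps) (l : G) :
    ∃ e ∈ tab, ∃ r h : G, Rp S r e.1 ∧ l = h * r * h⁻¹ := by
  obtain ⟨P, hP, r, k, h1, h2⟩ := hC l
  rw [← h, List.mem_map] at hP
  obtain ⟨e, he, rfl⟩ := hP
  exact ⟨e, he, r, k, h1, h2⟩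

variable {a b : G} (ha : Rp S a PA) (hb : Rp S b PB) (hC : Cov S)

/-- the element of order 35 with its matrix -/
theorem exists_c35 (ha : Rp S a PA) (hb : Rp S b PB) : ∃ c : G, Rp S c C35 ∧ orderOf c = 35 := by
  obtain ⟨c, hc⟩ := exists_word ha hb word35
  exact ⟨c, hc, order_35 hc ord35⟩

theorem exists_c13 (ha : Rp S a PA) (hb : Rp S b PB) : ∃ c : G, Rp S c C13 ∧ orderOf c = 13 := by
  obtain ⟨c, hc⟩ := exists_word ha hb word13
  exact ⟨c, hc, order_13 hc ord13⟩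

theorem exists_c11 (ha : Rp S a PA) (hb : Rp S b PB) : ∃ c : G, Rp S c C11 ∧ orderOf c = 11 := by
  obtain ⟨c, hc⟩ := exists_word ha hb word11
  exact ⟨c, hc, order_11 hc ord11⟩

theorem exists_c23 (ha : Rp S a PA) (hb : Rp S b PB) : ∃ c : G, Rp S c C23 ∧ orderOf c = 23 := by
  obtain ⟨c, hc⟩ := exists_word ha hb word23
  exact ⟨c, hc, order_23 hc ord23⟩

/-- one class of elements of order 35 -/
theorem uniq35 (hC : Cov S) {c y : G} (hc : Rp S c C35) (hy : orderOf y = 35) : ∃ v : G, y = v * c * v⁻¹ :=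
  uniq_gen (fun _ _ => order_ne_35) hC hc neg35 hy

theorem uniq13 (hC : Cov S) {c y : G} (hc : Rp S c C13) (hy : orderOf y = 13) : ∃ v : G, y = v * c * v⁻¹ :=
  uniq_gen (fun _ _ => order_ne_13) hC hc neg13 hy

theorem uniq11 (hC : Cov S) {c y : G} (hc : Rp S c C11) (hy : orderOf y = 11) : ∃ v : G, y = v * c * v⁻¹ :=
  uniq_gen (fun _ _ => order_ne_11) hC hc neg11 hy

include ha hb hC

/-- **35 * 35** -/
theorem prd35 {c : G} (hc : Rp S c C35) (l : G) : ∃ u v : G, l = (u * c * u⁻¹) * (v * c * v⁻¹) :=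
  prd_gen (fun _ _ => order_35) ha hb (hc.inv (Nat.eq_of_beq_eq_true inv35)) chk35
    (fun _ => uniq35 hC hc) l (hC.tab fst35 l)

/-- **13 * 13** -/
theorem prd13 {c : G} (hc : Rp S c C13) (l : G) : ∃ u v : G, l = (u * c * u⁻¹) * (v * c * v⁻¹) :=
  prd_gen (fun _ _ => order_13) ha hb (hc.inv (Nat.eq_of_beq_eq_true inv13)) chk13
    (fun _ => uniq13 hC hc) l (hC.tab fst13 l)

/-- **11 * 11** -/
theorem prd11 {c : G} (hc : Rp S c C11) (l : G) : ∃ u v : G, l = (u * c * u⁻¹) * (v * c * v⁻¹) :=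
  prd_gen (fun _ _ => order_11) ha hb (hc.inv (Nat.eq_of_beq_eq_true inv11)) chk11
    (fun _ => uniq11 hC hc) l (hC.tab fst11 l)

/-- **23 * 35** -/
theorem prd23 {d c : G} (hd : Rp S d C23) (hc : Rp S c C35) (l : G) (hl : l ≠ 1) :
    ∃ u v : G, l = (u * d * u⁻¹) * (v * c * v⁻¹) := by
  refine prd_gen (fun _ _ => order_35) ha hb (hd.inv (Nat.eq_of_beq_eq_true inv23)) chk23
    (fun _ => uniq35 hC hc) l ?_
  obtain ⟨P, hP, r, k, h1, h2⟩ := hC l
  rw [← fst23, List.mem_append, List.mem_map] at hP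
  rcases hP with ⟨e, he, rfl⟩ | hP
  · exact ⟨e, he, r, k, h1, h2⟩
  · rw [List.mem_singleton] at hP
    rw [hP] at h1
    rw [h1.one_of] at h2
    exact absurd (by rw [h2]; group) hl

end

end Cfsg.Agent.H785.TC
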