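import Cfsg.Agent.H264.TC.NoReal39Data
import Cfsg.Agent.H785.TC.CoPairs

/-!
# The elements of order 23 of `Co1` are not conjugate to their inverses (helper785)

For the element `r` with the matrix `C23` (representative 75) no point `x` has `f (r) x = 0`, but there is a point `p` with
`f (r⁻¹) p = 0`, `f = 1 + t + t ^ 5 + t ^ 6 + t ^ 7 + t ^ 9 + t ^ 11`.
-/

set_option autoImplicit false

namespace Cfsg.Agent.H785.TC

open Cfsg.Agent.H123.Cls Cfsg.Agent.Lib.BitNet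
open Cfsg.Agent.Lib.BitNetSimple (force force_eq tb tb_eq)

section

variable {G : Type*} [Group G] (S : Mdl G)

/-- `f (g) c` -/
def Fg (g : G) (c : ℕ) : ℕ :=
  c ^^^ (S.L (g ^ 1) c ^^^ (S.L (g ^ 5) c ^^^ (S.L (g ^ 6) c ^^^ (S.L (g ^ 7) c ^^^ (S.L (g ^ 9) c ^^^ S.L (g ^ 11) c)))))

theorem Fg_map (g h : G) (c : ℕ) : S.L g (Fg S h c) = Fg S (g * h * g⁻¹) (S.L g c) := by
  have e : ∀ j : ℕ, S.L g (S.L (h ^ j) c) = S.L ((g * h * g⁻¹) ^ j) (S.L g c) := by
    intro j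
    rw [← S.L_mul, ← S.L_mul]
    congr 1
    rw [conj_pow]
    group
  simp only [Fg, S.L_xor, e]

theorem B_xor_right (a b c : ℕ) : S.B a (b ^^^ c) = (S.B a b ^^ S.B a c) := by
  rw [S.B_symm, S.B_xor, S.B_symm b, S.B_symm c]

theorem Fg_adj (g : G) (a c : ℕ) (ha : a < 2 ^ 24) : S.B (Fg S g⁻¹ a) c = S.B a (Fg S g c) := by
  have e : ∀ j : ℕ, S.B (S.L (g⁻¹ ^ j) a) c = S.B a (S.L (g ^ j) c) := by
    intro j
    rw [← S.B_L (g ^ j), ← S.L_mul, inv_pow, mul_inv_cancel, S.L_one a ha]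
  simp only [Fg, S.B_xor, B_xor_right, e]

/-- the matrix of `f (g)` -/
noncomputable def fP {α : Type} (P : ℕ) (κ : ℕ → α) : α :=
  mulF P P fun P2 => mulF P2 P2 fun P4 => mulF P4 P fun P5 => mulF P5 P fun P6 => mulF P6 P fun P7 =>
    mulF P7 P2 fun P9 => mulF P9 P2 fun P11 => force (Nat.xor IDP (Nat.xor P (Nat.xor P5 (Nat.xor P6
      (Nat.xor P7 (Nat.xor P9 P11)))))) κ

theorem xc_un_xor (A B c : ℕ) : xc (un 24 (A ^^^ B)) c = xc (un 24 A) c ^^^ xc (un 24 B) c := by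
  rw [un_xor, xc_zip _ _ _ (by rw [un_length, un_length])]

theorem fP_spec {g : G} {P : ℕ} (hg : Rp S g P) : ∃ N : ℕ, (∀ {α : Type} (κ : ℕ → α), fP P κ = κ N) ∧
    ∀ c < 2 ^ 24, xc (un 24 N) c = Fg S g c := by
  have h1 : Rp S (g ^ 1) P := by rwa [pow_one]
  have h2 : Rp S (g ^ 2) _ := h1.mp h1
  have h4 : Rp S (g ^ 4) _ := h2.mp h2
  have h5 : Rp S (g ^ 5) _ := h4.mp h1
  have h6 : Rp S (g ^ 6) _ := h5.mp h1
  have h7 : Rp S (g ^ 7) _ := h6.mp h1
  have h9 : Rp S (g ^ 9) _ := h7.mp h2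
  have h11 : Rp S (g ^ 11) _ := h9.mp h2
  refine ⟨_, fun {α} κ => by
    simp only [fP, mulF_eq, force_eq]
    rfl, fun c hc => ?_⟩
  show xc (un 24 (IDP ^^^ (P ^^^ (_ ^^^ (_ ^^^ (_ ^^^ (_ ^^^ _))))))) c = _
  rw [xc_un_xor, xc_un_xor, xc_un_xor, xc_un_xor, xc_un_xor, xc_un_xor, un_ID, Mdl.xc_unL c hc, ← h1 c hc, ← h5 c hc,
    ← h6 c hc, ← h7 c hc, ← h9 c hc, ← h11 c hc]
  rfl

/-- the union of the rows of the codes -/
noncomputable def orF {α : Type} (D : List ℕ) (l : List ℕ) : ℕ → (ℕ → α) → α :=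
  List.rec (fun acc κ => κ acc) (fun c _ ih acc κ => force (xF D c 0) fun x => force (Nat.lor acc x) fun acc' => ih acc' κ) l

/-- the union of the rows of the codes -/
def orN (D : List ℕ) : List ℕ → ℕ → ℕ
  | [], acc => acc
  | c :: l, acc => orN D l (acc ||| xc D c)

theorem orF_eq {α : Type} (D : List ℕ) : ∀ (l : List ℕ) (acc : ℕ) (κ : ℕ → α), orF D l acc κ = κ (orN D l acc)
  | [], acc, κ => rfl
  | c :: l, acc, κ => by
    show force (xF D c 0) (fun x => force (Nat.lor acc x) fun acc' => orF D l acc' κ) = _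
    rw [force_eq, force_eq, xF_eq, Nat.zero_xor, orF_eq D l]
    rfl

theorem testBit_orN (D : List ℕ) (i : ℕ) : ∀ (l : List ℕ) (acc : ℕ), (orN D l acc).testBit i = true →
    acc.testBit i = true ∨ ∃ c ∈ l, (xc D c).testBit i = true
  | [], acc, h => Or.inl h
  | c :: l, acc, h => by
    rw [orN] at h
    rcases testBit_orN D i l _ h with h | ⟨d, hd, h⟩
    · rw [Nat.testBit_or, Bool.or_eq_true] at h
      rcases h with h | h
      · exact Or.inl h
      · exact Or.inr ⟨c, List.mem_cons_self, h⟩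
    · exact Or.inr ⟨d, List.mem_cons_of_mem _ hd, h⟩

/-- the certificate: `P` : matrix of `r⁻¹` -/
noncomputable def chkN (C D : List ℕ) (U P p : ℕ) : Bool :=
  fP P fun N => orF D (un 24 N) 0 fun m => band (Nat.beq (Nat.land m U) U) (band (Nat.beq (xF (un 24 N) (cdF C p) 0) 0)
    (band (tb U p) (Nat.blt p 131072)))

theorem of_chkN {r : G} {P p : ℕ} (hr : Rp S r⁻¹ P) (h : chkN S.C S.D S.U P p = true) : ¬ IsConj r r⁻¹ := by
  intro hconj
  obtain ⟨g, hg⟩ := isConj_iff.1 hconj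
  obtain ⟨N, h1, hN⟩ := fP_spec S hr
  rw [chkN, h1, orF_eq] at h
  obtain ⟨ha, h⟩ := band_true h
  obtain ⟨hb, h⟩ := band_true h
  obtain ⟨hc, hd⟩ := band_true h
  have hp : p < 2 ^ 17 := by rw [Nat.blt_eq] at hd; exact hd
  have hm : orN S.D (un 24 N) 0 &&& S.U = S.U := Nat.eq_of_beq_eq_true ha
  have hv : xc (un 24 N) (value S.C p) = 0 := by
    have := Nat.eq_of_beq_eq_true hb
    rwa [xF_eq, Nat.zero_xor, cdF_eq] at this
  rw [hN _ (S.val_lt p)] at hv
  have hU : S.U.testBit p = true := by rw [← tb_eq]; exact hc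
  -- the point `g⁻¹ p`
  set i := S.π g⁻¹ ⟨p, hp⟩ with hi
  have hcod : S.L g⁻¹ (value S.C p) = value S.C i := S.cod g⁻¹ ⟨p, hp⟩
  have hiU : S.U.testBit i = true := by rw [hi, S.U_inv]; exact hU
  have hz : Fg S r (value S.C i) = 0 := by
    rw [← hcod]
    have h3 : g⁻¹ * r⁻¹ * g⁻¹⁻¹ = r := by rw [← hg]; group
    have h4 := Fg_map S g⁻¹ r⁻¹ (value S.C p)
    rw [h3, hv, S.L_zero] at h4
    exact h4.symm
  have h5 : (orN S.D (un 24 N) 0).testBit i = true := by
    rw [← hm, Nat.testBit_and, Bool.and_eq_true] at hiU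
    exact hiU.1
  rcases testBit_orN _ _ _ _ h5 with h6 | ⟨c, hcm, h6⟩
  · rw [Nat.zero_testBit] at h6
    exact absurd h6 (by simp)
  · obtain ⟨k, hk', hck⟩ : ∃ k < 24, c = Fg S r⁻¹ (2 ^ k) := by
      obtain ⟨k, hk, hkc⟩ := List.getElem_of_mem hcm
      have hk' : k < 24 := by rwa [un_length] at hk
      have h9 := hN (2 ^ k) (Nat.pow_lt_pow_right (by norm_num) hk')
      rw [xc_two_pow, List.getD_eq_getElem _ _ hk, hkc] at h9
      exact ⟨k, hk', h9⟩
    rw [S.B_row, hck, Fg_adj S r _ _ (Nat.pow_lt_pow_right (by norm_num) hk'), hz] at h6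
    have h8 : S.B (2 ^ k) 0 = false := by
      have := B_xor_right S (2 ^ k) 0 0
      rw [Nat.xor_self, Bool.xor_self] at this
      exact this
    rw [h8] at h6
    exact Bool.false_ne_true h6

end

open Cfsg.Agent.MonsterX.LaneLab Cfsg.Agent.H264.TC.NoReal39

/-- representative 75, order 23 -/
def R75L : List ℕ := [16299614, 10949555, 2519580, 15377575, 11200897, 13309091, 1501530, 4009821, 11680619, 13170792,
  15380247, 13433819, 2055283, 701203, 15636743, 8171396, 1501286, 199310, 2925303, 15571770, 13935789, 7082932,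
  10596362, 2516002]

theorem un_C23 : un 24 C23 = R75L := by decide +kernel

theorem chk_23 : chkN CL DL XL D23 295 = true := by decide +kernel

/-- elements of order 23 (representative 75) are not conjugate to their inverses -/
theorem no23 {G : Type*} [Group G] (S : Mdl G) (hU : S.U = XL) (hC : S.C = CL) (hD : S.D = DL) (r : G)
    (hr : Rp S r C23) : ¬ IsConj r r⁻¹ := by
  refine of_chkN S (P := D23) (p := 295) (hr.inv (Nat.eq_of_beq_eq_true inv23)) ?_
  rw [hU, hC, hD]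
  exact chk_23

/-- the same with the list of codes -/
theorem no23_list {G : Type*} [Group G] (S : Mdl G) (hU : S.U = XL) (hC : S.C = CL) (hD : S.D = DL) (r : G)
    (hr : ∀ c, S.L r c = xc (R75L) c) : ¬ IsConj r r⁻¹ :=
  no23 S hU hC hD r fun c _ => by rw [hr c, ← un_C23]

end Cfsg.Agent.H785.TC
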