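import Cfsg.Agent.H123.Cls.LRun

/-!
# Packed 24 x 24 matrices over the field with two elements (helper785)

A matrix is given by the number `P` with the 24 slots of 24 bits `un 24 P` (the images of the unit codes); `mulF` is the
product by shifts, masks and multiplications only.
-/

set_option autoImplicit false

namespace Cfsg.Agent.H785.TC

open Cfsg.Agent.Lib.BitNetSimple (force force_eq)
open Cfsg.Agent.H123.Cls

/-- the slots -/
def un : ℕ → ℕ → List ℕ
  | 0, _ => []
  | n + 1, P => (P % 2 ^ 24) :: un n (P >>> 24)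

theorem un_succ (n P : ℕ) : un (n + 1) P = (P % 2 ^ 24) :: un n (P >>> 24) := rfl

/-- ones in all slots -/
def ons : ℕ → ℕ
  | 0 => 0
  | n + 1 => 1 + 2 ^ 24 * ons n

theorem un_length : ∀ (n P : ℕ), (un n P).length = n
  | 0, _ => rfl
  | n + 1, P => by rw [un, List.length_cons, un_length n]

theorem un_xor : ∀ (n A B : ℕ), un n (A ^^^ B) = List.zipWith (· ^^^ ·) (un n A) (un n B)
  | 0, _, _ => rfl
  | n + 1, A, B => by
    rw [un, un, un, List.zipWith_cons_cons, Nat.shiftRight_xor_distrib, un_xor n, Nat.xor_mod_two_pow]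

theorem land_ons (n T : ℕ) : T &&& ons (n + 1) = T % 2 + 2 ^ 24 * ((T >>> 24) &&& ons n) := by
  apply Nat.eq_of_testBit_eq
  intro i
  have hlt : T % 2 < 2 ^ 24 := lt_of_lt_of_le (Nat.mod_lt _ (by norm_num)) (by norm_num)
  have h1 : (1 : ℕ) < 2 ^ 24 := by norm_num
  rw [ons, Nat.testBit_and, Nat.add_comm 1, Nat.add_comm (T % 2), Nat.testBit_two_pow_mul_add _ h1,
    Nat.testBit_two_pow_mul_add _ hlt]
  by_cases hi : i < 24
  · rw [if_pos hi, if_pos hi]
    rcases Nat.eq_zero_or_pos i with rfl | h0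
    · simp [Nat.testBit_zero]
    · have e1 : (1 : ℕ).testBit i = false := by
        rw [Nat.testBit_one_eq_true_iff_self_eq_zero.not.2 (by omega : ¬ i = 0) |> Bool.eq_false_iff.2]
      have e2 : (T % 2).testBit i = false := by
        apply Nat.testBit_lt_two_pow
        exact lt_of_lt_of_le (Nat.mod_lt _ (by norm_num)) (by
          calc 2 = 2 ^ 1 := rfl
            _ ≤ 2 ^ i := Nat.pow_le_pow_right (by norm_num) h0)
      rw [e1, e2, Bool.and_false]
  · rw [if_neg hi, if_neg hi, Nat.testBit_and, Nat.testBit_shiftRight, Nat.add_sub_cancel' (by omega)]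

/-- a mask times a code -/
theorem un_mask : ∀ (n T r : ℕ), r < 2 ^ 24 →
    un n ((T &&& ons n) * r) = (un n T).map fun c => (c % 2) * r
  | 0, _, _, _ => rfl
  | n + 1, T, r, hr => by
    have h2 : T % 2 * r < 2 ^ 24 := by
      rcases Nat.mod_two_eq_zero_or_one T with h | h <;> rw [h] <;> omega
    have e : (T &&& ons (n + 1)) * r = 2 ^ 24 * (((T >>> 24) &&& ons n) * r) + T % 2 * r := by
      rw [land_ons]; ring
    rw [e, un, un, List.map_cons]
    congr 1
    · rw [Nat.mul_add_mod, Nat.mod_eq_of_lt h2, Nat.mod_mod_of_dvd _ (by norm_num)]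
    · rw [Nat.shiftRight_eq_div_pow, Nat.mul_add_div (by norm_num), Nat.div_eq_of_lt h2, Nat.add_zero]
      exact un_mask n _ r hr

theorem xc_cons (C : ℕ) (Cs : List ℕ) (c : ℕ) : xc (C :: Cs) c = (c % 2) * C ^^^ xc Cs (c >>> 1) := by
  rw [xc]
  congr 1
  rcases Nat.mod_two_eq_zero_or_one c with h | h
  · rw [Nat.testBit_zero, h]; simp
  · rw [Nat.testBit_zero, h]; simp

theorem xc_un_succ (n R c : ℕ) : xc (un (n + 1) R) c = (c % 2) * (R % 2 ^ 24) ^^^ xc (un n (R >>> 24)) (c >>> 1) := by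
  rw [un, xc_cons]

/-- shift of the mask within a slot -/
theorem un_mask' : ∀ (n T r k : ℕ), r < 2 ^ 24 → k < 24 →
    un n (((T >>> k) &&& ons n) * r) = (un n T).map fun c => ((c >>> k) % 2) * r
  | n, T, r, k, hr, hk => by
    rw [un_mask n _ r hr]
    induction n generalizing T with
    | zero => rfl
    | succ n ih =>
      rw [un, un, List.map_cons, List.map_cons]
      congr 1
      · congr 1
        rw [Nat.mod_mod_of_dvd _ (by norm_num)]
        rw [Nat.shiftRight_eq_div_pow, Nat.shiftRight_eq_div_pow]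
        have h := Nat.testBit_mod_two_pow T 24 k
        rw [decide_eq_true hk, Bool.true_and] at h
        rw [Nat.testBit_eq_decide_div_mod_eq, Nat.testBit_eq_decide_div_mod_eq] at h
        have h3 := decide_eq_decide.1 h
        rcases Nat.mod_two_eq_zero_or_one (T / 2 ^ k) with h1 | h1 <;>
          rcases Nat.mod_two_eq_zero_or_one (T % 2 ^ 24 / 2 ^ k) with h2 | h2 <;> omega
      · rw [← ih (T >>> 24)]
        rw [← Nat.shiftRight_add, ← Nat.shiftRight_add, Nat.add_comm]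

/-- the product: `R` applied to the slots of `T`; `n` columns of `R` -/
def mulN : ℕ → ℕ → ℕ → ℕ → ℕ
  | 0, _, _, acc => acc
  | n + 1, R, T, acc => mulN n (R >>> 24) (T >>> 1) (acc ^^^ ((T &&& ons 24) * (R % 2 ^ 24)))

theorem un_mulN : ∀ (n k R T acc : ℕ), n + k ≤ 24 → un 24 (mulN n R (T >>> k) acc) =
    List.zipWith (· ^^^ ·) (un 24 acc) ((un 24 T).map fun c => xc (un n R) (c >>> k))
  | 0, k, R, T, acc, _ => by
    rw [mulN]
    have : ((un 24 T).map fun c => xc (un 0 R) (c >>> k)) = (un 24 T).map fun _ => 0 := rfl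
    rw [this]
    apply List.ext_getElem
    · rw [List.length_zipWith, List.length_map, un_length, un_length]; rfl
    · intro i h1 h2
      rw [List.getElem_zipWith, List.getElem_map, Nat.xor_zero]
  | n + 1, k, R, T, acc, h => by
    rw [mulN, ← Nat.shiftRight_add, un_mulN n (k + 1) _ _ _ (by omega), un_xor,
      un_mask' 24 T _ k (Nat.mod_lt _ (by norm_num)) (by omega)]
    apply List.ext_getElem
    · rw [List.length_zipWith, List.length_zipWith, List.length_zipWith, List.length_map, List.length_map,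
        List.length_map, un_length, un_length]
      rfl
    · intro i h1 h2
      rw [List.getElem_zipWith, List.getElem_zipWith, List.getElem_zipWith, List.getElem_map, List.getElem_map,
        List.getElem_map, xc_un_succ, Nat.xor_assoc, ← Nat.shiftRight_add]

/-- the packed product -/
def mulP (R T : ℕ) : ℕ := mulN 24 R T 0

theorem un_zero : ∀ n : ℕ, un n 0 = List.replicate n 0
  | 0 => rfl
  | n + 1 => by rw [un, Nat.zero_shiftRight, un_zero n, Nat.zero_mod]; rfl

theorem un_mulP (R T : ℕ) : un 24 (mulP R T) = (un 24 T).map fun c => xc (un 24 R) c := by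
  have h := un_mulN 24 0 R T 0 (by norm_num)
  rw [Nat.shiftRight_zero] at h
  rw [mulP, h]
  apply List.ext_getElem
  · rw [List.length_zipWith, List.length_map, List.length_map, un_length, un_length]; rfl
  · intro i h1 h2
    rw [List.getElem_zipWith, List.getElem_map, List.getElem_map, Nat.shiftRight_zero]
    have : (un 24 0)[i]'(by rw [un_length]; rw [List.length_map, un_length] at h2; exact h2) = 0 := by
      simp only [un_zero, List.getElem_replicate]
    rw [this, Nat.zero_xor]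

/-- the mask as a number -/
def ON : ℕ := 14742041600653298778164464186675034565339440968075561999656263336489234065757151420561541415618923938782311094303562262231923774852187994847031891473161258761755557889

theorem ON_eq : ons 24 = ON := by decide +kernel

/-- strict product -/
noncomputable def mulF {α : Type} (R T : ℕ) (κ : ℕ → α) : α :=
  Nat.rec (motive := fun _ => ℕ → ℕ → ℕ → α) (fun _ _ acc => κ acc) (fun _ ih R T acc =>
    force (Nat.xor acc (Nat.mul (Nat.land T ON) (Nat.land R 16777215))) fun a =>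
      force (Nat.shiftRight R 24) fun R' => force (Nat.shiftRight T 1) fun T' => ih R' T' a) 24 R T 0

theorem mulF_eq {α : Type} (R T : ℕ) (κ : ℕ → α) : mulF R T κ = κ (mulP R T) := by
  have key : ∀ n R T acc : ℕ, (Nat.rec (motive := fun _ => ℕ → ℕ → ℕ → α) (fun _ _ acc => κ acc) (fun _ ih R T acc =>
    force (Nat.xor acc (Nat.mul (Nat.land T ON) (Nat.land R 16777215))) fun a =>
      force (Nat.shiftRight R 24) fun R' => force (Nat.shiftRight T 1) fun T' => ih R' T' a) n R T acc : α) =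
      κ (mulN n R T acc) := by
    intro n
    induction n with
    | zero => intro R T acc; rfl
    | succ n ih =>
      intro R T acc
      show force _ _ = _
      rw [force_eq, force_eq, force_eq, ih, mulN]
      congr 2
      show acc ^^^ ((T &&& ON) * (R &&& 16777215)) = _
      rw [← ON_eq, show (16777215 : ℕ) = 2 ^ 24 - 1 from rfl, Nat.and_two_pow_sub_one_eq_mod]
  exact key 24 R T 0

/-- `g` has the matrix `P` -/
def Rp {G : Type*} [Group G] (S : Mdl G) (g : G) (P : ℕ) : Prop := ∀ c < 2 ^ 24, S.L g c = xc (un 24 P) c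

section

variable {G : Type*} [Group G] {S : Mdl G}

theorem un_lt : ∀ (n P x : ℕ), x ∈ un n P → x < 2 ^ 24
  | 0, _, x, h => by simp [un] at h
  | n + 1, P, x, h => by
    rw [un, List.mem_cons] at h
    rcases h with rfl | h
    · exact Nat.mod_lt _ (by norm_num)
    · exact un_lt n _ _ h

theorem Rp.mul {g h : G} {P Q : ℕ} (hg : Rp S g P) (hh : Rp S h Q) : Rp S (g * h) (mulP P Q) := by
  intro c hc
  rw [S.L_mul, hg _ (S.L_lt h c), hh c hc, un_mulP, xc_map]

/-- the identity matrix -/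
def IDP : ℕ := 123665204422062557356803572788677631011309541569709136179232403901906511584503046599112559797157752258954946564622144514457573459535397137501359353526631510665794982588186625

theorem un_ID : un 24 IDP = unL := by decide +kernel

theorem Rp.one_of {g : G} (hg : Rp S g IDP) : g = 1 := by
  apply S.faith
  intro k hk
  rw [hg _ (Nat.pow_lt_pow_right (by norm_num) hk), un_ID]
  exact Mdl.xc_unL _ (Nat.pow_lt_pow_right (by norm_num) hk)

theorem Rp.one : Rp S 1 IDP := by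
  intro c hc
  rw [S.L_one c hc, un_ID, Mdl.xc_unL c hc]

/-- pack -/
def pk : List ℕ → ℕ
  | [] => 0
  | c :: l => c + 2 ^ 24 * pk l

theorem pk_un : ∀ (n P : ℕ), pk (un n P) = P % 2 ^ (24 * n)
  | 0, P => by rw [un, pk]; simp [Nat.mod_one]
  | n + 1, P => by
    rw [un, pk, pk_un n, Nat.shiftRight_eq_div_pow, show 24 * (n + 1) = 24 + 24 * n by ring, pow_add]
    rw [Nat.mod_mul]

/-- all ones -/
def MM : ℕ := 247330401473104534060502521019647190035131349101211839914063056092897225106531867170316401061243044989597671426016139339351365034306751209967546155101893167916606772148699135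

set_option exponentiation.threshold 600 in
theorem MM_eq : 2 ^ 576 - 1 = MM := by decide +kernel

set_option exponentiation.threshold 600 in
theorem IDP_mod : IDP % 2 ^ 576 = IDP := by decide +kernel

/-- uniqueness of the matrix -/
theorem Rp.un_eq {g : G} {P Q : ℕ} (hP : Rp S g P) (hQ : Rp S g Q) : un 24 P = un 24 Q := by
  apply List.ext_getElem
  · rw [un_length, un_length]
  · intro i h1 h2
    have hi : 2 ^ i < 2 ^ 24 := Nat.pow_lt_pow_right (by norm_num) (by rwa [un_length] at h1)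
    have h := (hP (2 ^ i) hi).symm.trans (hQ (2 ^ i) hi)
    rw [xc_two_pow, xc_two_pow, List.getD_eq_getElem _ _ h1, List.getD_eq_getElem _ _ h2] at h
    exact h

set_option exponentiation.threshold 600 in
theorem Rp.mod_eq {g : G} {P Q : ℕ} (hP : Rp S g P) (hQ : Rp S g Q) : P % 2 ^ 576 = Q % 2 ^ 576 := by
  have h := congrArg pk (hP.un_eq hQ)
  rwa [pk_un, pk_un] at h

theorem Rp.eq {g h : G} {P : ℕ} (hg : Rp S g P) (hh : Rp S h P) : g = h := by
  have key : ∀ c < 2 ^ 24, S.L (g⁻¹ * h) c = c := by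
    intro c hc
    rw [S.L_mul, hh c hc, ← hg c hc, ← S.L_mul, inv_mul_cancel, S.L_one c hc]
  have h1 := S.faith (g⁻¹ * h) fun k hk => key _ (Nat.pow_lt_pow_right (by norm_num) hk)
  rw [inv_mul_eq_one] at h1
  exact h1

/-- the matrix of a conjugate -/
theorem Rp.conj {u c : G} {U C T : ℕ} (hu : Rp S u U) (hc : Rp S c C) (h : mulP T U = mulP U C) :
    Rp S (u * c * u⁻¹) T := by
  intro v hv
  have e : S.L u (S.L u⁻¹ v) = v := by rw [← S.L_mul, mul_inv_cancel, S.L_one v hv]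
  have hw := S.L_lt u⁻¹ v
  rw [S.L_mul, (hu.mul hc) _ hw, ← h, un_mulP, xc_map, ← hu _ hw, e]

/-- the matrix of an inverse -/
theorem Rp.inv {u : G} {U V : ℕ} (hu : Rp S u U) (h : mulP V U = IDP) : Rp S u⁻¹ V := by
  intro v hv
  have e : S.L u (S.L u⁻¹ v) = v := by rw [← S.L_mul, mul_inv_cancel, S.L_one v hv]
  have hw := S.L_lt u⁻¹ v
  have h1 : xc (un 24 (mulP V U)) (S.L u⁻¹ v) = S.L u⁻¹ v := by rw [h, un_ID, Mdl.xc_unL _ hw]
  rw [← h1, un_mulP, xc_map, ← hu _ hw, e]

/-- not the identity -/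
noncomputable def neI (Y : ℕ) : Bool := Bool.rec true false (Nat.beq (Nat.land Y MM) IDP)

set_option exponentiation.threshold 600 in
theorem Rp.ne_one {y : G} {Y : ℕ} (hy : Rp S y Y) (h : neI Y = true) : y ≠ 1 := by
  rintro rfl
  have h1 := hy.mod_eq Rp.one
  have h2 : Nat.beq (Nat.land Y MM) IDP = true := by
    rw [Nat.beq_eq]
    show Y &&& MM = IDP
    rw [← MM_eq, Nat.and_two_pow_sub_one_eq_mod, h1, IDP_mod]
  rw [neI, h2] at h
  exact Bool.false_ne_true h

/-- evaluate a word -/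
noncomputable def wF {α : Type} (A B : ℕ) (l : List Bool) : ℕ → (ℕ → α) → α :=
  List.rec (fun acc κ => κ acc) (fun x _ ih acc κ => mulF acc (Bool.rec A B x) fun acc' => ih acc' κ) l

theorem wF_spec {a b : G} {A B : ℕ} (ha : Rp S a A) (hb : Rp S b B) {α : Type} : ∀ (l : List Bool) (g : G) (P : ℕ),
    Rp S g P → ∃ (h : G) (Q : ℕ), Rp S h Q ∧ ∀ κ : ℕ → α, wF A B l P κ = κ Q
  | [], g, P, hg => ⟨g, P, hg, fun _ => rfl⟩
  | false :: l, g, P, hg => by
    obtain ⟨h, Q, h1, h2⟩ := wF_spec ha hb l (g * a) (mulP P A) (hg.mul ha)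
    refine ⟨h, Q, h1, fun κ => ?_⟩
    show mulF P A (fun acc' => wF A B l acc' κ) = κ Q
    rw [mulF_eq, h2]
  | true :: l, g, P, hg => by
    obtain ⟨h, Q, h1, h2⟩ := wF_spec ha hb l (g * b) (mulP P B) (hg.mul hb)
    refine ⟨h, Q, h1, fun κ => ?_⟩
    show mulF P B (fun acc' => wF A B l acc' κ) = κ Q
    rw [mulF_eq, h2]

/-- is the order 35 -/
noncomputable def o35 (Y : ℕ) : Bool :=
  mulF Y Y fun Y2 => mulF Y2 Y2 fun Y4 => mulF Y4 Y fun Y5 => mulF Y5 Y2 fun Y7 => mulF Y7 Y7 fun Y14 =>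
    mulF Y14 Y14 fun Y28 => mulF Y28 Y7 fun Y35 => band (neI Y5) (band (neI Y7) (Nat.beq Y35 IDP))

/-- is the order 13 -/
noncomputable def o13 (Y : ℕ) : Bool :=
  mulF Y Y fun Y2 => mulF Y2 Y2 fun Y4 => mulF Y4 Y4 fun Y8 => mulF Y8 Y4 fun Y12 => mulF Y12 Y fun Y13 =>
    band (neI Y) (Nat.beq Y13 IDP)

/-- is the order 11 -/
noncomputable def o11 (Y : ℕ) : Bool :=
  mulF Y Y fun Y2 => mulF Y2 Y2 fun Y4 => mulF Y4 Y4 fun Y8 => mulF Y8 Y2 fun Y10 => mulF Y10 Y fun Y11 =>
    band (neI Y) (Nat.beq Y11 IDP)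

theorem Rp.mp {y : G} {i j P Q : ℕ} (hP : Rp S (y ^ i) P) (hQ : Rp S (y ^ j) Q) : Rp S (y ^ (i + j)) (mulP P Q) := by
  rw [pow_add]
  exact hP.mul hQ

theorem order_35 {y : G} {Y : ℕ} (hy : Rp S y Y) (h : o35 Y = true) : orderOf y = 35 := by
  rw [o35] at h
  simp only [mulF_eq] at h
  have h1 : Rp S (y ^ 1) Y := by rwa [pow_one]
  have h2 : Rp S (y ^ 2) _ := h1.mp h1
  have h4 : Rp S (y ^ 4) _ := h2.mp h2
  have h5 : Rp S (y ^ 5) _ := h4.mp h1
  have h7 : Rp S (y ^ 7) _ := h5.mp h2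
  have h14 : Rp S (y ^ 14) _ := h7.mp h7
  have h28 : Rp S (y ^ 28) _ := h14.mp h14
  have h35 : Rp S (y ^ 35) _ := h28.mp h7
  obtain ⟨e1, e2⟩ := band_true h
  obtain ⟨e3, e4⟩ := band_true e2
  have f5 := h5.ne_one e1
  have f7 := h7.ne_one e3
  rw [Nat.eq_of_beq_eq_true e4] at h35
  have f35 := h35.one_of
  apply orderOf_eq_of_pow_and_pow_div_prime (by norm_num) f35
  intro p hp hd
  have hp' : p = 5 ∨ p = 7 := by
    have h1 : p ∣ 5 * 7 := hd
    rcases (Nat.Prime.dvd_mul hp).1 h1 with h1 | h1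
    · exact Or.inl ((Nat.prime_dvd_prime_iff_eq hp (by norm_num)).1 h1)
    · exact Or.inr ((Nat.prime_dvd_prime_iff_eq hp (by norm_num)).1 h1)
  rcases hp' with rfl | rfl
  · exact f7
  · exact f5

theorem order_13 {y : G} {Y : ℕ} (hy : Rp S y Y) (h : o13 Y = true) : orderOf y = 13 := by
  rw [o13] at h
  simp only [mulF_eq] at h
  have h1 : Rp S (y ^ 1) Y := by rwa [pow_one]
  have h2 : Rp S (y ^ 2) _ := h1.mp h1
  have h4 : Rp S (y ^ 4) _ := h2.mp h2
  have h8 : Rp S (y ^ 8) _ := h4.mp h4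
  have h12 : Rp S (y ^ 12) _ := h8.mp h4
  have h13 : Rp S (y ^ 13) _ := h12.mp h1
  obtain ⟨e1, e2⟩ := band_true h
  rw [Nat.eq_of_beq_eq_true e2] at h13
  exact (orderOf_eq_prime_iff (hp := ⟨by norm_num⟩)).2 ⟨h13.one_of, hy.ne_one e1⟩

theorem order_11 {y : G} {Y : ℕ} (hy : Rp S y Y) (h : o11 Y = true) : orderOf y = 11 := by
  rw [o11] at h
  simp only [mulF_eq] at h
  have h1 : Rp S (y ^ 1) Y := by rwa [pow_one]
  have h2 : Rp S (y ^ 2) _ := h1.mp h1
  have h4 : Rp S (y ^ 4) _ := h2.mp h2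
  have h8 : Rp S (y ^ 8) _ := h4.mp h4
  have h10 : Rp S (y ^ 10) _ := h8.mp h2
  have h11 : Rp S (y ^ 11) _ := h10.mp h1
  obtain ⟨e1, e2⟩ := band_true h
  rw [Nat.eq_of_beq_eq_true e2] at h11
  exact (orderOf_eq_prime_iff (hp := ⟨by norm_num⟩)).2 ⟨h11.one_of, hy.ne_one e1⟩

/-- one entry: matrix `R`, word `l` of `u`, matrix `T` of `u d u⁻¹` (`C` : matrix of `d`) -/
noncomputable def chkE (o : ℕ → Bool) (A B C : ℕ) (e : ℕ × List Bool × ℕ) : Bool :=
  wF A B e.2.1 IDP fun U => mulF e.2.2 U fun X => mulF U C fun X' => band (Nat.beq X X') (mulF e.2.2 e.1 fun Y => o Y)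

theorem of_chkE {o : ℕ → Bool} {n : ℕ} (ho : ∀ (y : G) (Y : ℕ), Rp S y Y → o Y = true → orderOf y = n) {a b d r : G}
    {A B C : ℕ} {e : ℕ × List Bool × ℕ} (ha : Rp S a A) (hb : Rp S b B) (hd : Rp S d C) (hr : Rp S r e.1)
    (h : chkE o A B C e = true) : ∃ u y : G, orderOf y = n ∧ r = (u * d⁻¹ * u⁻¹) * y := by
  obtain ⟨u, U, hu, h1⟩ := wF_spec (α := Bool) ha hb e.2.1 1 IDP Rp.one
  rw [chkE, h1, mulF_eq, mulF_eq, mulF_eq] at h
  obtain ⟨e1, e2⟩ := band_true h
  have ht := hu.conj hd (Nat.eq_of_beq_eq_true e1)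
  refine ⟨u, _, ho _ _ (ht.mul hr) e2, ?_⟩
  group

theorem exists_word {a b : G} {A B : ℕ} (ha : Rp S a A) (hb : Rp S b B) {l : List Bool} {R : ℕ}
    (h : wF A B l IDP (fun Q => Nat.beq Q R) = true) : ∃ g : G, Rp S g R := by
  obtain ⟨g, Q, hg, h1⟩ := wF_spec (α := Bool) ha hb l 1 IDP Rp.one
  rw [h1] at h
  rw [← Nat.eq_of_beq_eq_true h]
  exact ⟨g, hg⟩

/-- disjunction -/
noncomputable def bor (a b : Bool) : Bool := Bool.rec b true a

theorem bor_true {a b : Bool} (h : bor a b = true) : a = true ∨ b = true := by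
  cases a
  · exact Or.inr h
  · exact Or.inl rfl

/-- the order is not 35 -/
noncomputable def n35 (Y : ℕ) : Bool :=
  mulF Y Y fun Y2 => mulF Y2 Y2 fun Y4 => mulF Y4 Y fun Y5 => mulF Y5 Y2 fun Y7 => mulF Y7 Y7 fun Y14 =>
    mulF Y14 Y14 fun Y28 => mulF Y28 Y7 fun Y35 => bor (Nat.beq Y5 IDP) (bor (Nat.beq Y7 IDP) (neI Y35))

/-- the order is not 13 -/
noncomputable def n13 (Y : ℕ) : Bool :=
  mulF Y Y fun Y2 => mulF Y2 Y2 fun Y4 => mulF Y4 Y4 fun Y8 => mulF Y8 Y4 fun Y12 => mulF Y12 Y fun Y13 =>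
    bor (Nat.beq Y IDP) (neI Y13)

/-- the order is not 11 -/
noncomputable def n11 (Y : ℕ) : Bool :=
  mulF Y Y fun Y2 => mulF Y2 Y2 fun Y4 => mulF Y4 Y4 fun Y8 => mulF Y8 Y2 fun Y10 => mulF Y10 Y fun Y11 =>
    bor (Nat.beq Y IDP) (neI Y11)

theorem Rp.one_of_beq {y : G} {Y : ℕ} (hy : Rp S y Y) (h : Nat.beq Y IDP = true) : y = 1 := by
  rw [Nat.eq_of_beq_eq_true h] at hy
  exact hy.one_of

theorem order_ne_35 {y : G} {Y : ℕ} (hy : Rp S y Y) (h : n35 Y = true) : orderOf y ≠ 35 := by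
  intro ho
  rw [n35] at h
  simp only [mulF_eq] at h
  have h1 : Rp S (y ^ 1) Y := by rwa [pow_one]
  have h2 : Rp S (y ^ 2) _ := h1.mp h1
  have h4 : Rp S (y ^ 4) _ := h2.mp h2
  have h5 : Rp S (y ^ 5) _ := h4.mp h1
  have h7 : Rp S (y ^ 7) _ := h5.mp h2
  have h14 : Rp S (y ^ 14) _ := h7.mp h7
  have h28 : Rp S (y ^ 28) _ := h14.mp h14
  have h35 : Rp S (y ^ 35) _ := h28.mp h7
  rcases bor_true h with h | h
  · have := orderOf_dvd_of_pow_eq_one (h5.one_of_beq h)
    rw [ho] at this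
    exact absurd this (by norm_num)
  · rcases bor_true h with h | h
    · have := orderOf_dvd_of_pow_eq_one (h7.one_of_beq h)
      rw [ho] at this
      exact absurd this (by norm_num)
    · exact h35.ne_one h (by rw [← ho, pow_orderOf_eq_one])

theorem order_ne_13 {y : G} {Y : ℕ} (hy : Rp S y Y) (h : n13 Y = true) : orderOf y ≠ 13 := by
  intro ho
  rw [n13] at h
  simp only [mulF_eq] at h
  have h1 : Rp S (y ^ 1) Y := by rwa [pow_one]
  have h2 : Rp S (y ^ 2) _ := h1.mp h1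
  have h4 : Rp S (y ^ 4) _ := h2.mp h2
  have h8 : Rp S (y ^ 8) _ := h4.mp h4
  have h12 : Rp S (y ^ 12) _ := h8.mp h4
  have h13 : Rp S (y ^ 13) _ := h12.mp h1
  rcases bor_true h with h | h
  · rw [hy.one_of_beq h, orderOf_one] at ho
    exact absurd ho (by norm_num)
  · exact h13.ne_one h (by rw [← ho, pow_orderOf_eq_one])

theorem order_ne_11 {y : G} {Y : ℕ} (hy : Rp S y Y) (h : n11 Y = true) : orderOf y ≠ 11 := by
  intro ho
  rw [n11] at h
  simp only [mulF_eq] at h
  have h1 : Rp S (y ^ 1) Y := by rwa [pow_one]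
  have h2 : Rp S (y ^ 2) _ := h1.mp h1
  have h4 : Rp S (y ^ 4) _ := h2.mp h2
  have h8 : Rp S (y ^ 8) _ := h4.mp h4
  have h10 : Rp S (y ^ 10) _ := h8.mp h2
  have h11 : Rp S (y ^ 11) _ := h10.mp h1
  rcases bor_true h with h | h
  · rw [hy.one_of_beq h, orderOf_one] at ho
    exact absurd ho (by norm_num)
  · exact h11.ne_one h (by rw [← ho, pow_orderOf_eq_one])

/-- all entries of the list -/
noncomputable def allE {α : Type} (f : α → Bool) (l : List α) : Bool := List.rec true (fun x _ ih => band (f x) ih) l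

theorem of_allE {α : Type} {f : α → Bool} : ∀ {l : List α}, allE f l = true → ∀ x ∈ l, f x = true
  | [], _, x, hx => by simp at hx
  | y :: l, h, x, hx => by
    have h1 : band (f y) (allE f l) = true := h
    obtain ⟨h2, h3⟩ := band_true h1
    rcases List.mem_cons.1 hx with rfl | hx
    · exact h2
    · exact of_allE h3 x hx

/-- the elements of order `n` are conjugate -/
theorem uniq_gen {n : ℕ} {nn : ℕ → Bool} (hn : ∀ (y : G) (Y : ℕ), Rp S y Y → nn Y = true → orderOf y ≠ n)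
    {Reps : List ℕ} (hcov : ∀ g : G, ∃ P ∈ Reps, ∃ r h : G, Rp S r P ∧ g = h * r * h⁻¹) {c : G} {C : ℕ} (hc : Rp S c C)
    (hneg : allE (fun P => bor (Nat.beq P C) (nn P)) Reps = true) {y : G} (hy : orderOf y = n) :
    ∃ v : G, y = v * c * v⁻¹ := by
  obtain ⟨P, hP, r, h, hr, rfl⟩ := hcov y
  rcases bor_true (of_allE hneg P hP) with h1 | h1
  · rw [Nat.eq_of_beq_eq_true h1] at hr
    rw [hr.eq hc]
    exact ⟨h, rfl⟩
  · refine absurd ?_ (hn r P hr h1)
    rw [← hy]
    exact (MulEquiv.orderOf_eq (MulAut.conj h) r).symm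

/-- the products of conjugates -/
theorem prd_gen {n : ℕ} {o : ℕ → Bool} (ho : ∀ (y : G) (Y : ℕ), Rp S y Y → o Y = true → orderOf y = n) {a b c d : G}
    {A B C : ℕ} {tab : List (ℕ × List Bool × ℕ)} (ha : Rp S a A) (hb : Rp S b B) (hd : Rp S d⁻¹ C)
    (hall : allE (chkE o A B C) tab = true) (hu : ∀ y : G, orderOf y = n → ∃ v : G, y = v * c * v⁻¹) (l : G)
    (hcov : ∃ e ∈ tab, ∃ r h : G, Rp S r e.1 ∧ l = h * r * h⁻¹) : ∃ u v : G, l = (u * d * u⁻¹) * (v * c * v⁻¹) := by
  obtain ⟨e, he, r, h, hr, rfl⟩ := hcov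
  obtain ⟨u, y, hy, hry⟩ := of_chkE ho ha hb hd hr (of_allE hall e he)
  obtain ⟨v, rfl⟩ := hu y hy
  refine ⟨h * u, h * v, ?_⟩
  rw [hry, inv_inv]
  group

end

end Cfsg.Agent.H785.TC
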